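import Mathlib.RingTheory.LaurentSeries
import Mathlib.Tactic

/-!
# Laurent series: coefficients of ring homomorphisms, rescaling, series in `t ^ d`
-/

set_option autoImplicit false
universe u v

open HahnSeries

namespace K62.Tame

variable {R : Type u} [CommRing R]

theorem coeff_neg {S : Type*} [CommRing S] (p : PowerSeries S) (j : ℤ) (h : ¬ 0 ≤ j) :
    (HahnSeries.ofPowerSeries ℤ S p).coeff j = 0 := by
  rw [HahnSeries.ofPowerSeries_apply]
  apply HahnSeries.embDomain_of_notMem_range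
  rintro ⟨a, ha⟩
  apply h
  rw [← ha]
  exact Int.natCast_nonneg _

section Map

variable {k : Type v} [CommRing k] (f : R →+* k) (ρ : LaurentSeries R →+* LaurentSeries k)
  (hρ : ρ.comp (HahnSeries.ofPowerSeries ℤ R) = (HahnSeries.ofPowerSeries ℤ k).comp (PowerSeries.map f))

include hρ

theorem map_powerSeries (p : PowerSeries R) :
    ρ (HahnSeries.ofPowerSeries ℤ R p) = HahnSeries.ofPowerSeries ℤ k (PowerSeries.map f p) :=
  congr($hρ p)

theorem map_single_nat (n : ℕ) : ρ (single (n : ℤ) (1 : R)) = single (n : ℤ) (1 : k) := by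
  rw [← HahnSeries.ofPowerSeries_X_pow, map_powerSeries f ρ hρ, map_pow, PowerSeries.map_X,
    HahnSeries.ofPowerSeries_X_pow]

theorem map_single (n : ℤ) : ρ (single n (1 : R)) = single n (1 : k) := by
  rcases n.eq_nat_or_neg with ⟨m, rfl | rfl⟩
  · exact map_single_nat f ρ hρ m
  · have h1 : (single (m : ℤ) (1 : R)) * single (-(m : ℤ)) (1 : R) = 1 := by
      rw [HahnSeries.single_mul_single, add_neg_cancel, one_mul, HahnSeries.single_zero_one]
    have h2 : (single (m : ℤ) (1 : k)) * single (-(m : ℤ)) (1 : k) = 1 := by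
      rw [HahnSeries.single_mul_single, add_neg_cancel, one_mul, HahnSeries.single_zero_one]
    have h3 := congrArg ρ h1
    rw [map_mul, map_single_nat f ρ hρ, RingHom.map_one] at h3
    calc ρ (single (-(m : ℤ)) 1) = (single (m : ℤ) (1 : k) * single (-(m : ℤ)) (1 : k)) * ρ (single (-(m : ℤ)) 1) := by
          rw [h2, one_mul]
      _ = single (-(m : ℤ)) (1 : k) * (single (m : ℤ) (1 : k) * ρ (single (-(m : ℤ)) 1)) := by ring
      _ = single (-(m : ℤ)) (1 : k) := by rw [h3, mul_one]

theorem map_coeff (x : LaurentSeries R) (m : ℤ) : (ρ x).coeff m = f (x.coeff m) := by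
  conv_lhs => rw [← LaurentSeries.single_order_mul_powerSeriesPart x]
  conv_rhs => rw [← LaurentSeries.single_order_mul_powerSeriesPart x]
  rw [map_mul, map_single f ρ hρ, map_powerSeries f ρ hρ]
  rw [← sub_add_cancel m x.order, coeff_single_mul_add, coeff_single_mul_add, one_mul, one_mul]
  by_cases h : 0 ≤ m - x.order
  · obtain ⟨n, hn⟩ := Int.eq_ofNat_of_zero_le h
    rw [hn]
    rw [LaurentSeries.coeff_coe_powerSeries, LaurentSeries.coeff_coe_powerSeries, PowerSeries.coeff_map]
  · rw [coeff_neg _ _ h, coeff_neg _ _ h, map_zero]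

end Map

/-- The rescaling `t ↦ ζ t`. -/
noncomputable def scaleFun (ζ : Rˣ) (x : LaurentSeries R) : LaurentSeries R where
  coeff m := ((ζ ^ m : Rˣ) : R) * x.coeff m
  isPWO_support' := x.isPWO_support.mono fun m hm => by
    intro h0
    exact hm (by simp only [h0, mul_zero])

theorem scaleFun_coeff (ζ : Rˣ) (x : LaurentSeries R) (m : ℤ) :
    (scaleFun ζ x).coeff m = ((ζ ^ m : Rˣ) : R) * x.coeff m := rfl

theorem support_scaleFun (ζ : Rˣ) (x : LaurentSeries R) : (scaleFun ζ x).support = x.support := by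
  ext m
  rw [HahnSeries.mem_support, HahnSeries.mem_support, scaleFun_coeff, Ne, Units.mul_right_eq_zero]

theorem scaleFun_mul (ζ : Rˣ) (x y : LaurentSeries R) : scaleFun ζ (x * y) = scaleFun ζ x * scaleFun ζ y := by
  ext m
  rw [scaleFun_coeff, HahnSeries.coeff_mul, HahnSeries.coeff_mul, Finset.mul_sum]
  refine Finset.sum_congr ?_ fun ij hij => ?_
  · ext ij
    rw [Finset.mem_antidiagonal, Finset.mem_antidiagonal, support_scaleFun, support_scaleFun]
  · rw [Finset.mem_antidiagonal] at hij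
    rw [scaleFun_coeff, scaleFun_coeff, ← hij.2.2, zpow_add, Units.val_mul]
    ring

/-- The rescaling `t ↦ ζ t` as a ring homomorphism. -/
noncomputable def scale (ζ : Rˣ) : LaurentSeries R →+* LaurentSeries R where
  toFun := scaleFun ζ
  map_one' := by
    ext m
    rw [scaleFun_coeff, HahnSeries.coeff_one]
    split_ifs with h
    · rw [h, zpow_zero, Units.val_one, one_mul]
    · rw [mul_zero]
  map_mul' := scaleFun_mul ζ
  map_zero' := by
    ext m
    rw [scaleFun_coeff, HahnSeries.coeff_zero, mul_zero]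
  map_add' x y := by
    ext m
    rw [scaleFun_coeff, HahnSeries.coeff_add, HahnSeries.coeff_add, scaleFun_coeff, scaleFun_coeff, mul_add]

theorem scale_coeff (ζ : Rˣ) (x : LaurentSeries R) (m : ℤ) :
    (scale ζ x).coeff m = ((ζ ^ m : Rˣ) : R) * x.coeff m := rfl

section Pow

variable (d : ℕ) (hd : 0 < d) (hinj : Function.Injective (AddMonoidHom.mulLeft (d : ℤ)))
  (hmono : ∀ g g' : ℤ, AddMonoidHom.mulLeft (d : ℤ) g ≤ AddMonoidHom.mulLeft (d : ℤ) g' ↔ g ≤ g')

theorem sub_coeff (x : LaurentSeries R) (m : ℤ) :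
    (HahnSeries.embDomainRingHom (R := R) (AddMonoidHom.mulLeft (d : ℤ)) hinj hmono x).coeff ((d : ℤ) * m) = x.coeff m :=
  HahnSeries.embDomain_coeff (f := ⟨⟨AddMonoidHom.mulLeft (d : ℤ), hinj⟩, hmono _ _⟩)

theorem sub_coeff_zero (x : LaurentSeries R) (m : ℤ) (hm : ¬ (d : ℤ) ∣ m) :
    (HahnSeries.embDomainRingHom (R := R) (AddMonoidHom.mulLeft (d : ℤ)) hinj hmono x).coeff m = 0 := by
  refine HahnSeries.embDomain_of_notMem_range (f := ⟨⟨AddMonoidHom.mulLeft (d : ℤ), hinj⟩, hmono _ _⟩) ?_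
  rintro ⟨a, ha⟩
  exact hm ⟨a, ha.symm⟩

theorem sub_injective :
    Function.Injective (HahnSeries.embDomainRingHom (R := R) (AddMonoidHom.mulLeft (d : ℤ)) hinj hmono) := by
  intro x y h
  ext m
  rw [← sub_coeff d hinj hmono x, h, sub_coeff]

include hd in
/-- A series whose coefficients vanish off `d ℤ` is a series in `t ^ d`. -/
theorem exists_sub (y : LaurentSeries R) (hy : ∀ m : ℤ, ¬ (d : ℤ) ∣ m → y.coeff m = 0) :
    ∃ x, HahnSeries.embDomainRingHom (R := R) (AddMonoidHom.mulLeft (d : ℤ)) hinj hmono x = y := by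
  have hd' : (0 : ℤ) < d := by exact_mod_cast hd
  let x : LaurentSeries R :=
    { coeff := fun m => y.coeff ((d : ℤ) * m)
      isPWO_support' := by
        refine (y.isPWO_support.image_of_monotone (f := fun j : ℤ => j / d)
          (fun a b hab => Int.ediv_le_ediv hd' hab)).mono ?_
        intro m hm
        exact ⟨(d : ℤ) * m, hm, Int.mul_ediv_cancel_left _ hd'.ne'⟩ }
  refine ⟨x, ?_⟩
  ext m
  by_cases h : (d : ℤ) ∣ m
  · obtain ⟨a, rfl⟩ := h
    rw [sub_coeff]
  · rw [sub_coeff_zero d hinj hmono x m h, hy m h]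

theorem scale_sub (ζ : Rˣ) (hζ : ζ ^ d = 1) (x : LaurentSeries R) :
    scale ζ (HahnSeries.embDomainRingHom (R := R) (AddMonoidHom.mulLeft (d : ℤ)) hinj hmono x) =
      HahnSeries.embDomainRingHom (R := R) (AddMonoidHom.mulLeft (d : ℤ)) hinj hmono x := by
  ext m
  rw [scale_coeff]
  by_cases h : (d : ℤ) ∣ m
  · obtain ⟨a, rfl⟩ := h
    rw [zpow_mul, zpow_natCast, hζ, one_zpow, Units.val_one, one_mul]
  · rw [sub_coeff_zero d hinj hmono x m h, mul_zero]

end Pow

end K62.Tame
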