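import Groth.Agent.FEt.K62.Tame1
import Groth.Agent.S15749
import Mathlib.AlgebraicGeometry.Limits
import Mathlib.AlgebraicGeometry.Morphisms.Finite
import Mathlib.RingTheory.Henselian
import Mathlib.FieldTheory.IsSepClosed
import Mathlib.RingTheory.RootsOfUnity.PrimitiveRoots

/-!
# Sections of a scheme over `R((t))` split by `t ↦ t ^ d`
-/

set_option autoImplicit false
universe u

open CategoryTheory CategoryTheory.Limits AlgebraicGeometry

namespace K62.Tame

theorem connectedSpace_of_idem {S : Type u} [CommRing S] [Nontrivial S]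
    (h : ∀ e : S, IsIdempotentElem e → e = 0 ∨ e = 1) : ConnectedSpace (PrimeSpectrum S) := by
  have : PreconnectedSpace (PrimeSpectrum S) := by
    rw [preconnectedSpace_iff_clopen]
    intro s hs
    obtain ⟨e, he, rfl⟩ := PrimeSpectrum.exists_idempotent_basicOpen_eq_of_isClopen hs
    rcases h e he with rfl | rfl
    · left; simp
    · right; simp
  exact { toPreconnectedSpace := this, toNonempty := inferInstance }

theorem exists_factor {n : ℕ} {T Z : Scheme.{u}} [ConnectedSpace Z] (g : Z ⟶ ∐ fun _ : Fin n => T) :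
    ∃ (i : Fin n) (g' : Z ⟶ T), g' ≫ Sigma.ι (fun _ : Fin n => T) i = g := by
  have hcov : ∀ y : ↥(∐ fun _ : Fin n => T), ∃ (i : Fin n) (x : T), Sigma.ι (fun _ : Fin n => T) i x = y := by
    intro y
    obtain ⟨i, x, hx⟩ := (sigmaOpenCover (fun _ : Fin n => T)).exists_eq y
    exact ⟨i, x, hx⟩
  obtain ⟨z₀⟩ := (inferInstance : Nonempty Z)
  obtain ⟨i, x₀, hx₀⟩ := hcov (g z₀)
  have hclopen : IsClopen (g ⁻¹' Set.range (Sigma.ι (fun _ : Fin n => T) i)) := by
    constructor
    · have : (g ⁻¹' Set.range (Sigma.ι (fun _ : Fin n => T) i))ᶜ =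
          ⋃ j : {j : Fin n // j ≠ i}, g ⁻¹' Set.range (Sigma.ι (fun _ : Fin n => T) j.1) := by
        ext z
        simp only [Set.mem_compl_iff, Set.mem_preimage, Set.mem_iUnion]
        constructor
        · intro hz
          obtain ⟨j, x, hx⟩ := hcov (g z)
          exact ⟨⟨j, fun hj => hz (hj ▸ ⟨x, hx⟩)⟩, ⟨x, hx⟩⟩
        · rintro ⟨⟨j, hj⟩, x, hx⟩ ⟨x', hx'⟩
          have h1 := (sigmaι_eq_iff (fun _ : Fin n => T) j i x x').1 (hx.trans hx'.symm)
          exact hj (congrArg Sigma.fst h1)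
      rw [← isOpen_compl_iff, this]
      exact isOpen_iUnion fun j =>
        ((Sigma.ι (fun _ : Fin n => T) j.1).isOpenEmbedding.isOpen_range).preimage g.continuous
    · exact ((Sigma.ι (fun _ : Fin n => T) i).isOpenEmbedding.isOpen_range).preimage g.continuous
  have huniv := hclopen.eq_univ ⟨z₀, ⟨x₀, hx₀⟩⟩
  have hr : Set.range g ⊆ Set.range (Sigma.ι (fun _ : Fin n => T) i) := by
    rintro _ ⟨z, rfl⟩
    have : z ∈ g ⁻¹' Set.range (Sigma.ι (fun _ : Fin n => T) i) := huniv ▸ Set.mem_univ z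
    exact this
  exact ⟨i, IsOpenImmersion.lift (Sigma.ι (fun _ : Fin n => T) i) g hr, IsOpenImmersion.lift_fac _ _ hr⟩

theorem ι_inj {n : ℕ} {T Z : Scheme.{u}} [Nonempty Z] (g : Z ⟶ T) {i j : Fin n}
    (h : g ≫ Sigma.ι (fun _ : Fin n => T) i = g ≫ Sigma.ι (fun _ : Fin n => T) j) : i = j := by
  obtain ⟨z⟩ := (inferInstance : Nonempty Z)
  have h1 : (g ≫ Sigma.ι (fun _ : Fin n => T) i) z = (g ≫ Sigma.ι (fun _ : Fin n => T) j) z := by rw [h]
  rw [Scheme.Hom.comp_apply, Scheme.Hom.comp_apply] at h1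
  exact congrArg Sigma.fst ((sigmaι_eq_iff (fun _ : Fin n => T) i j _ _).1 h1)

section Split

variable {X T : Scheme.{u}} (p : X ⟶ T) (q : T ⟶ T) {n : ℕ}
  (e : pullback p q ≅ ∐ fun _ : Fin n => T)
  (he : e.hom ≫ Sigma.desc (fun _ : Fin n => 𝟙 T) = pullback.snd p q)

/-- The local sections of `X` over `q`. -/
noncomputable def psi (i : Fin n) : T ⟶ X := Sigma.ι (fun _ : Fin n => T) i ≫ e.inv ≫ pullback.fst p q

include he in
theorem inv_snd (i : Fin n) : Sigma.ι (fun _ : Fin n => T) i ≫ e.inv ≫ pullback.snd p q = 𝟙 T := by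
  rw [← he, e.inv_hom_id_assoc, Sigma.ι_desc]

include he in
theorem psi_comp (i : Fin n) : psi p q e i ≫ p = q := by
  unfold psi
  rw [Category.assoc, Category.assoc, pullback.condition, ← Category.assoc e.inv, ← Category.assoc,
    inv_snd p q e he, Category.id_comp]

include he in
theorem exists_psi {Z : Scheme.{u}} [ConnectedSpace Z] (h : Z ⟶ X) (g : Z ⟶ T) (w : h ≫ p = g ≫ q) :
    ∃ i, h = g ≫ psi p q e i := by
  obtain ⟨i, g', hg'⟩ := exists_factor (pullback.lift h g w ≫ e.hom)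
  have h1 : g' = g := by
    have h2 := congrArg (· ≫ e.inv ≫ pullback.snd p q) hg'
    simp only [Category.assoc, e.hom_inv_id_assoc, pullback.lift_snd] at h2
    rw [inv_snd p q e he, Category.comp_id] at h2
    exact h2
  refine ⟨i, ?_⟩
  have h3 := congrArg (· ≫ e.inv ≫ pullback.fst p q) hg'
  simp only [Category.assoc, e.hom_inv_id_assoc, pullback.lift_fst] at h3
  rw [← h3, h1]
  rfl

include he in
theorem psi_inj {Z : Scheme.{u}} [Nonempty Z] (g : Z ⟶ T) {i j : Fin n}
    (h : g ≫ psi p q e i = g ≫ psi p q e j) : i = j := by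
  apply ι_inj g
  rw [← cancel_mono e.inv]
  apply pullback.hom_ext
  · simpa only [psi, Category.assoc] using h
  · rw [Category.assoc, Category.assoc, Category.assoc, Category.assoc, inv_snd p q e he, inv_snd p q e he]

end Split

end K62.Tame
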