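import Groth.Agent.FEt.K62.Tame2
import Mathlib.RingTheory.RootsOfUnity.AlgebraicallyClosed
import Mathlib.RingTheory.LocalRing.ResidueField.Basic

/-!
# Sections over `R((t))` and over `k((t))`, `R` strictly henselian with residue field `k`
-/

set_option autoImplicit false
universe u

open CategoryTheory CategoryTheory.Limits AlgebraicGeometry

namespace K62.Tame

section Root

variable (R : Type u) [CommRing R] [HenselianLocalRing R] [IsSepClosed (IsLocalRing.ResidueField R)]
  (d : ℕ) (hd : 0 < d) (hdu : IsUnit (d : R))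

include hd hdu in
theorem exists_root : ∃ ζ : Rˣ, ζ ^ d = 1 ∧ ∀ m : ℤ, ¬ (d : ℤ) ∣ m → IsUnit (((ζ ^ m : Rˣ) : R) - 1) := by
  let k := IsLocalRing.ResidueField R
  have hdk : (d : k) ≠ 0 := by
    have h1 : (d : k) = IsLocalRing.residue R (d : R) := (map_natCast _ d).symm
    rw [h1, Ne, IsLocalRing.residue_eq_zero_iff]
    intro h2
    exact (IsLocalRing.mem_maximalIdeal _).1 h2 hdu
  have : NeZero (d : k) := ⟨hdk⟩
  have : NeZero d := ⟨hd.ne'⟩
  obtain ⟨z, hz⟩ := HasEnoughRootsOfUnity.exists_primitiveRoot k d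
  obtain ⟨a₀, ha₀⟩ := IsLocalRing.residue_surjective z
  have hzu : z ≠ 0 := fun h => by
    have := hz.pow_eq_one
    rw [h, zero_pow hd.ne'] at this
    exact zero_ne_one this
  obtain ⟨a, ha, haa⟩ := HenselianLocalRing.is_henselian (Polynomial.X ^ d - 1 : Polynomial R)
    (by
      rw [← Polynomial.C_1]
      exact Polynomial.monic_X_pow_sub_C 1 hd.ne') a₀
    (by
      rw [Polynomial.eval_sub, Polynomial.eval_pow, Polynomial.eval_X, Polynomial.eval_one,
        ← IsLocalRing.residue_eq_zero_iff, map_sub, map_pow, ha₀, hz.pow_eq_one, map_one, sub_self])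
    (by
      rw [Polynomial.derivative_sub, Polynomial.derivative_one, sub_zero, Polynomial.derivative_X_pow,
        Polynomial.eval_mul, Polynomial.eval_C, Polynomial.eval_pow, Polynomial.eval_X]
      refine hdu.mul (IsUnit.pow _ ?_)
      rw [← IsLocalRing.residue_ne_zero_iff_isUnit, ha₀]
      exact hzu)
  have hra : IsLocalRing.residue R a = z := by
    rw [← ha₀, ← sub_eq_zero, ← map_sub, IsLocalRing.residue_eq_zero_iff]
    exact haa
  have hau : a ^ d = 1 := by
    rw [Polynomial.IsRoot, Polynomial.eval_sub, Polynomial.eval_pow, Polynomial.eval_X, Polynomial.eval_one,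
      sub_eq_zero] at ha
    exact ha
  let ζ : Rˣ := Units.ofPowEqOne a d hau hd.ne'
  have hζ : ζ ^ d = 1 := by
    apply Units.ext
    rw [Units.val_pow_eq_pow_val, Units.val_one]
    exact hau
  refine ⟨ζ, hζ, fun m hm => ?_⟩
  rw [← IsLocalRing.residue_ne_zero_iff_isUnit, map_sub, map_one, sub_ne_zero]
  intro h
  apply hm
  have hzζ : (Units.map (IsLocalRing.residue R).toMonoidHom ζ : k) = z := hra
  have h2 : ((Units.map (IsLocalRing.residue R).toMonoidHom ζ) ^ m : kˣ) = 1 := by
    rw [← map_zpow]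
    apply Units.ext
    exact h
  have h3 : IsPrimitiveRoot (Units.map (IsLocalRing.residue R).toMonoidHom ζ) d := by
    rw [← IsPrimitiveRoot.coe_units_iff, hzζ]
    exact hz
  exact (h3.zpow_eq_one_iff_dvd m).1 h2

end Root

section Affine

variable {X : Scheme.{u}} [IsAffine X]

/-- The ring homomorphism of a point of an affine scheme. -/
noncomputable def rg {S : Type u} [CommRing S] (ψ : Spec (CommRingCat.of S) ⟶ X) : Γ(X, ⊤) →+* S :=
  (Spec.preimage (ψ ≫ X.isoSpec.hom)).hom

theorem map_rg {S : Type u} [CommRing S] (ψ : Spec (CommRingCat.of S) ⟶ X) :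
    Spec.map (CommRingCat.ofHom (rg ψ)) ≫ X.isoSpec.inv = ψ := by
  rw [rg, CommRingCat.ofHom_hom, Spec.map_preimage, Category.assoc, Iso.hom_inv_id, Category.comp_id]

theorem rg_comp {S S' : Type u} [CommRing S] [CommRing S'] (f : S →+* S') (ψ : Spec (CommRingCat.of S) ⟶ X) :
    rg (Spec.map (CommRingCat.ofHom f) ≫ ψ) = f.comp (rg ψ) := by
  have h1 : Spec.map (CommRingCat.ofHom f) ≫ ψ ≫ X.isoSpec.hom =
      Spec.map (CommRingCat.ofHom (f.comp (rg ψ))) := by
    conv_lhs => rw [← map_rg ψ]
    rw [Category.assoc, Iso.inv_hom_id, Category.comp_id, ← Spec.map_comp, ← CommRingCat.ofHom_comp]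
  rw [rg, Category.assoc, h1, Spec.preimage_map, CommRingCat.hom_ofHom]

theorem rg_inj {S : Type u} [CommRing S] {ψ ψ' : Spec (CommRingCat.of S) ⟶ X} (h : rg ψ = rg ψ') : ψ = ψ' := by
  rw [← map_rg ψ, h, map_rg]

theorem eq_of_comp_eq {S S' : Type u} [CommRing S] [CommRing S'] (f : S →+* S') (hf : Function.Injective f)
    {ψ ψ' : Spec (CommRingCat.of S) ⟶ X}
    (h : Spec.map (CommRingCat.ofHom f) ≫ ψ = Spec.map (CommRingCat.ofHom f) ≫ ψ') : ψ = ψ' := by
  apply rg_inj
  ext b
  apply hf
  have h1 := congrArg rg h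
  rw [rg_comp, rg_comp] at h1
  exact congr($h1 b)

theorem exists_factor_of_forall {S S' : Type u} [CommRing S] [CommRing S'] (f : S →+* S') (hf : Function.Injective f)
    (ψ : Spec (CommRingCat.of S') ⟶ X) (h : ∀ b, ∃ x, f x = rg ψ b) :
    ∃ s : Spec (CommRingCat.of S) ⟶ X, Spec.map (CommRingCat.ofHom f) ≫ s = ψ := by
  let e : S ≃+* f.range := RingEquiv.ofBijective f.rangeRestrict
    ⟨fun a b hab => hf (congrArg Subtype.val hab), f.rangeRestrict_surjective⟩
  let φ : Γ(X, ⊤) →+* S := e.symm.toRingHom.comp ((rg ψ).codRestrict f.range fun b => h b)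
  have hφ : f.comp φ = rg ψ := by
    ext b
    have h1 : e (φ b) = (rg ψ).codRestrict f.range (fun b => h b) b := e.apply_symm_apply _
    exact congrArg Subtype.val h1
  refine ⟨Spec.map (CommRingCat.ofHom φ) ≫ X.isoSpec.inv, ?_⟩
  rw [← Category.assoc, ← Spec.map_comp, ← CommRingCat.ofHom_comp, hφ, map_rg]

end Affine

theorem idem_laurent (R : Type u) [CommRing R] [IsLocalRing R] (e : LaurentSeries R) (he : IsIdempotentElem e) : e = 0 ∨ e = 1 := by
  obtain ⟨r, ⟨hr, hre⟩, -⟩ := Groth.Agent.S15749.result R e he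
  have h1 : r = 0 ∨ r = 1 := by
    rcases IsLocalRing.isUnit_or_isUnit_one_sub_self r with h | h
    · right
      exact h.mul_left_cancel (by rw [mul_one]; exact hr)
    · left
      have h2 : (1 - r) * r = (1 - r) * 0 := by rw [mul_zero, sub_mul, one_mul, hr.eq, sub_self]
      exact h.mul_left_cancel h2
  rcases h1 with rfl | rfl
  · left; rw [← hre, map_zero]
  · right; rw [← hre, map_one]

section Main

variable (R : Type u) [CommRing R] [HenselianLocalRing R] [IsSepClosed (IsLocalRing.ResidueField R)]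

theorem main (d : ℕ) (hd : 0 < d) (hdu : IsUnit (d : R))
    (hinj : Function.Injective (AddMonoidHom.mulLeft (d : ℤ)))
    (hmono : ∀ g g' : ℤ, AddMonoidHom.mulLeft (d : ℤ) g ≤ AddMonoidHom.mulLeft (d : ℤ) g' ↔ g ≤ g')
    (ρ : LaurentSeries R →+* LaurentSeries (IsLocalRing.ResidueField R))
    (hρ : ρ.comp (HahnSeries.ofPowerSeries ℤ R) =
      (HahnSeries.ofPowerSeries ℤ (IsLocalRing.ResidueField R)).comp (PowerSeries.map (IsLocalRing.residue R)))
    (X : Scheme.{u}) (p : X ⟶ Spec (CommRingCat.of (LaurentSeries R))) [IsFinite p]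
    (n : ℕ) (e : pullback p (Spec.map (CommRingCat.ofHom
        (HahnSeries.embDomainRingHom (R := R) (AddMonoidHom.mulLeft (d : ℤ)) hinj hmono))) ≅
        (∐ fun _ : Fin n => Spec (CommRingCat.of (LaurentSeries R))))
    (he : e.hom ≫ Sigma.desc (fun _ : Fin n => 𝟙 (Spec (CommRingCat.of (LaurentSeries R)))) =
        pullback.snd p (Spec.map (CommRingCat.ofHom
          (HahnSeries.embDomainRingHom (R := R) (AddMonoidHom.mulLeft (d : ℤ)) hinj hmono)))) :
    (∀ s₁ s₂ : Spec (CommRingCat.of (LaurentSeries R)) ⟶ X,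
        s₁ ≫ p = 𝟙 _ → s₂ ≫ p = 𝟙 _ →
        Spec.map (CommRingCat.ofHom ρ) ≫ s₁ = Spec.map (CommRingCat.ofHom ρ) ≫ s₂ → s₁ = s₂) ∧
    (∀ s' : Spec (CommRingCat.of (LaurentSeries (IsLocalRing.ResidueField R))) ⟶ X,
        s' ≫ p = Spec.map (CommRingCat.ofHom ρ) →
        ∃ s : Spec (CommRingCat.of (LaurentSeries R)) ⟶ X, s ≫ p = 𝟙 _ ∧ Spec.map (CommRingCat.ofHom ρ) ≫ s = s') := by
  have hX : IsAffine X := isAffine_of_isAffineHom p
  let σ := HahnSeries.embDomainRingHom (R := R) (AddMonoidHom.mulLeft (d : ℤ)) hinj hmono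
  let σk := HahnSeries.embDomainRingHom (R := IsLocalRing.ResidueField R) (AddMonoidHom.mulLeft (d : ℤ)) hinj hmono
  have hσi : Function.Injective σ := sub_injective d hinj hmono
  have hσki : Function.Injective σk := sub_injective d hinj hmono
  have hcomm : ρ.comp σ = σk.comp ρ := by
    ext x m
    rw [RingHom.comp_apply, RingHom.comp_apply, map_coeff _ ρ hρ]
    by_cases h : (d : ℤ) ∣ m
    · obtain ⟨a, rfl⟩ := h
      rw [sub_coeff, sub_coeff, map_coeff _ ρ hρ]
    · rw [sub_coeff_zero d hinj hmono x m h, sub_coeff_zero d hinj hmono _ m h, map_zero]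
  let q := Spec.map (CommRingCat.ofHom σ)
  let qk := Spec.map (CommRingCat.ofHom σk)
  let r := Spec.map (CommRingCat.ofHom ρ)
  have hqr : r ≫ q = qk ≫ r := by
    change Spec.map _ ≫ Spec.map _ = Spec.map _ ≫ Spec.map _
    rw [← Spec.map_comp, ← Spec.map_comp, ← CommRingCat.ofHom_comp, ← CommRingCat.ofHom_comp, hcomm]
  have : Nontrivial (LaurentSeries R) := inferInstance
  have c1 : ConnectedSpace ↥(Spec (CommRingCat.of (LaurentSeries R))) :=
    connectedSpace_of_idem (S := LaurentSeries R) (idem_laurent R)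
  have c2 : ConnectedSpace ↥(Spec (CommRingCat.of (LaurentSeries (IsLocalRing.ResidueField R)))) :=
    connectedSpace_of_idem (S := LaurentSeries (IsLocalRing.ResidueField R))
      (fun e he => IsIdempotentElem.iff_eq_zero_or_one.1 he)
  have key : ∀ s : Spec (CommRingCat.of (LaurentSeries R)) ⟶ X, s ≫ p = 𝟙 _ → ∃ i, q ≫ s = psi p q e i := by
    intro s hs
    obtain ⟨i, hi⟩ := exists_psi p q e he (q ≫ s) (𝟙 _) (by rw [Category.assoc, hs, Category.comp_id, Category.id_comp])
    exact ⟨i, by rw [hi, Category.id_comp]⟩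
  constructor
  · intro s₁ s₂ h₁ h₂ h
    obtain ⟨i, hi⟩ := key s₁ h₁
    obtain ⟨j, hj⟩ := key s₂ h₂
    have h3 : r ≫ psi p q e i = r ≫ psi p q e j := by
      rw [← hi, ← hj, ← Category.assoc, ← Category.assoc, hqr, Category.assoc, Category.assoc]
      exact congrArg (fun t => qk ≫ t) h
    have h4 := psi_inj p q e he r h3
    subst h4
    exact eq_of_comp_eq σ hσi (hi.trans hj.symm)
  · intro s' hs'
    obtain ⟨i, hi⟩ := exists_psi p q e he (qk ≫ s') r (by rw [Category.assoc, hs', hqr])
    obtain ⟨ζ, hζ, hζu⟩ := exists_root R d hd hdu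
    let ζk : (IsLocalRing.ResidueField R)ˣ := Units.map (IsLocalRing.residue R).toMonoidHom ζ
    have hζk : ζk ^ d = 1 := by rw [← map_pow, hζ, map_one]
    let τ := Spec.map (CommRingCat.ofHom (scale ζ))
    let τk := Spec.map (CommRingCat.ofHom (scale ζk))
    have hτq : τ ≫ q = q := by
      change Spec.map _ ≫ Spec.map _ = Spec.map _
      rw [← Spec.map_comp, ← CommRingCat.ofHom_comp]
      congr 2
      ext x : 1
      exact scale_sub d hinj hmono ζ hζ x
    have hτqk : τk ≫ qk = qk := by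
      change Spec.map _ ≫ Spec.map _ = Spec.map _
      rw [← Spec.map_comp, ← CommRingCat.ofHom_comp]
      congr 2
      ext x : 1
      exact scale_sub d hinj hmono ζk hζk x
    have hrτ : r ≫ τ = τk ≫ r := by
      change Spec.map _ ≫ Spec.map _ = Spec.map _ ≫ Spec.map _
      rw [← Spec.map_comp, ← Spec.map_comp, ← CommRingCat.ofHom_comp, ← CommRingCat.ofHom_comp]
      congr 2
      ext x m
      rw [RingHom.comp_apply, RingHom.comp_apply, map_coeff _ ρ hρ, scale_coeff, scale_coeff,
        map_coeff _ ρ hρ, map_mul]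
      congr 1
      rw [← map_zpow]
      rfl
    obtain ⟨j, hj⟩ := exists_psi p q e he (τ ≫ psi p q e i) (𝟙 _) (by
      rw [Category.assoc, psi_comp p q e he, hτq, Category.id_comp])
    rw [Category.id_comp] at hj
    have hji : j = i := by
      apply psi_inj p q e he r
      rw [← hj, ← Category.assoc, hrτ, Category.assoc, ← hi, ← Category.assoc, hτqk]
    subst hji
    -- `psi j` is invariant under the rescaling
    obtain ⟨s, hs⟩ := exists_factor_of_forall σ hσi (psi p q e j) (fun b => by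
      refine exists_sub d hd hinj hmono _ fun m hm => ?_
      have h1 := congrArg rg hj
      rw [rg_comp] at h1
      have h2 : (scale ζ (rg (psi p q e j) b)).coeff m = (rg (psi p q e j) b).coeff m := by
        have := congr($h1 b)
        rw [RingHom.comp_apply] at this
        rw [this]
      rw [scale_coeff] at h2
      have h3 : (((ζ ^ m : Rˣ) : R) - 1) * (rg (psi p q e j) b).coeff m = 0 := by
        rw [sub_mul, one_mul, h2, sub_self]
      exact ((hζu m hm).mul_right_eq_zero).1 h3)
    refine ⟨s, ?_, ?_⟩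
    · have : IsAffine (Spec (CommRingCat.of (LaurentSeries R))) := inferInstance
      apply eq_of_comp_eq σ hσi
      rw [Category.comp_id, ← Category.assoc, hs]
      exact psi_comp p q e he j
    · apply eq_of_comp_eq σk hσki
      change qk ≫ r ≫ s = qk ≫ s'
      rw [hi, ← hs, ← Category.assoc, ← hqr, Category.assoc]

end Main

end K62.Tame
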